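import Cfsg.Agent.Linear.GLTwo
import Cfsg.Agent.Linear.Torus

/-!
Centralisers and conjugacy of non-scalar elements of `GL_2` and `SL_2` over a finite field.
-/

set_option autoImplicit false
set_option linter.unusedSectionVars false
set_option linter.unusedSimpArgs false

namespace Cfsg.Agent.Linear.Classes

open Matrix
open scoped MatrixGroups

variable {F : Type*} [Field F]

local notation "M2" => Matrix (Fin 2) (Fin 2) F

/-- The matrix is not a scalar matrix. -/
def Nonscalar (A : M2) : Prop := ∀ c : F, A ≠ c • (1 : M2)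

/-- The companion matrix of `X ^ 2 - t X + d`. -/
def companion (t d : F) : M2 := !![0, -d; 1, t]

theorem companion_nonscalar (t d : F) : Nonscalar (companion t d) := fun c h => by
  have := congrFun (congrFun h 1) 0
  simp [companion] at this

theorem det_companion (t d : F) : (companion t d).det = d := by
  simp [companion, Matrix.det_fin_two]

theorem trace_companion (t d : F) : (companion t d).trace = t := by
  simp [companion, Matrix.trace_fin_two]

theorem exists_companion {A : M2} (hA : Nonscalar A) :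
    ∃ P : M2, P.det ≠ 0 ∧ A * P = P * companion A.trace A.det := by
  simp only [companion, Matrix.trace_fin_two, Matrix.det_fin_two]
  by_cases h10 : A 1 0 = 0
  · by_cases h01 : A 0 1 = 0
    · have hne : A 0 0 ≠ A 1 1 := fun e => hA (A 0 0) (by
        ext i j; fin_cases i <;> fin_cases j <;> simp [h10, h01, e])
      refine ⟨!![1, A 0 0; 1, A 1 1], ?_, ?_⟩
      · simpa [sub_eq_zero] using hne.symm
      · ext i j
        fin_cases i <;> fin_cases j <;> simp [Matrix.mul_apply, Fin.sum_univ_two, h10, h01] <;> ring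
    · refine ⟨!![0, A 0 1; 1, A 1 1], by simpa using h01, ?_⟩
      ext i j
      fin_cases i <;> fin_cases j <;> simp [Matrix.mul_apply, Fin.sum_univ_two] <;> ring
  · refine ⟨!![1, A 0 0; 0, A 1 0], by simpa using h10, ?_⟩
    ext i j
    fin_cases i <;> fin_cases j <;> simp [Matrix.mul_apply, Fin.sum_univ_two] <;> ring

theorem inv_mul_self {P : M2} (hP : P.det ≠ 0) : P⁻¹ * P = 1 ∧ P * P⁻¹ = 1 :=
  ⟨Matrix.nonsing_inv_mul P (Ne.isUnit hP), Matrix.mul_nonsing_inv P (Ne.isUnit hP)⟩

theorem exists_intertwiner {A B : M2} (hA : Nonscalar A) (hB : Nonscalar B)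
    (ht : A.trace = B.trace) (hd : A.det = B.det) : ∃ P : M2, P.det ≠ 0 ∧ A * P = P * B := by
  obtain ⟨P, hP, hAP⟩ := exists_companion hA
  obtain ⟨Q, hQ, hBQ⟩ := exists_companion hB
  rw [ht, hd] at hAP
  obtain ⟨h1, h2⟩ := inv_mul_self hQ
  refine ⟨P * Q⁻¹, ?_, ?_⟩
  · rw [Matrix.det_mul, Matrix.det_nonsing_inv, Ring.inverse_eq_inv']
    exact mul_ne_zero hP (inv_ne_zero hQ)
  · have : companion B.trace B.det * Q⁻¹ = Q⁻¹ * B := by
      have e := congrArg (fun M => Q⁻¹ * M * Q⁻¹) hBQ
      simp only [← Matrix.mul_assoc, h1, Matrix.one_mul] at e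
      rw [Matrix.mul_assoc (Q⁻¹ * B), h2, Matrix.mul_one] at e
      exact e.symm
    rw [← Matrix.mul_assoc, hAP, Matrix.mul_assoc, this, ← Matrix.mul_assoc]

theorem commute_companion {t d : F} {M : M2} (h : companion t d * M = M * companion t d) :
    M = M 0 0 • (1 : M2) + M 1 0 • companion t d := by
  have e00 := congrFun (congrFun h 0) 0
  have e10 := congrFun (congrFun h 1) 0
  simp [companion, Matrix.mul_apply, Fin.sum_univ_two] at e00 e10
  ext i j
  fin_cases i <;> fin_cases j <;> simp [companion]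
  · linear_combination -e00
  · linear_combination -e10

theorem commute_iff {A M : M2} (hA : Nonscalar A) :
    A * M = M * A ↔ ∃ a b : F, M = a • (1 : M2) + b • A := by
  constructor
  · intro h
    obtain ⟨P, hP, hAP⟩ := exists_companion hA
    obtain ⟨h1, h2⟩ := inv_mul_self hP
    set C := companion A.trace A.det
    have hC : C = P⁻¹ * A * P := by rw [Matrix.mul_assoc, hAP, ← Matrix.mul_assoc, h1, Matrix.one_mul]
    have hA' : A = P * C * P⁻¹ := by rw [← hAP, Matrix.mul_assoc, h2, Matrix.mul_one]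
    have hcomm : C * (P⁻¹ * M * P) = (P⁻¹ * M * P) * C := by
      rw [hC]
      calc P⁻¹ * A * P * (P⁻¹ * M * P) = P⁻¹ * A * (P * P⁻¹) * M * P := by
            simp only [Matrix.mul_assoc]
        _ = P⁻¹ * (A * M) * P := by rw [h2]; simp only [Matrix.mul_assoc, Matrix.one_mul]
        _ = P⁻¹ * M * (P * P⁻¹) * A * P := by
            rw [h, h2]; simp only [Matrix.mul_assoc, Matrix.one_mul]
        _ = _ := by simp only [Matrix.mul_assoc]
    obtain ⟨a, b, hab⟩ : ∃ a b : F, P⁻¹ * M * P = a • (1 : M2) + b • C :=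
      ⟨_, _, commute_companion hcomm⟩
    refine ⟨a, b, ?_⟩
    calc M = P * (P⁻¹ * M * P) * P⁻¹ := by
          simp only [Matrix.mul_assoc, h2, Matrix.mul_one]
          rw [← Matrix.mul_assoc, h2, Matrix.one_mul]
      _ = _ := by
          rw [hab, Matrix.mul_add, Matrix.add_mul, Matrix.mul_smul, Matrix.smul_mul,
            Matrix.mul_smul, Matrix.smul_mul, Matrix.mul_one, h2, ← hA']
  · rintro ⟨a, b, rfl⟩
    simp [Matrix.mul_add, Matrix.add_mul]

theorem coeff_inj {A : M2} (hA : Nonscalar A) {a b a' b' : F}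
    (h : a • (1 : M2) + b • A = a' • (1 : M2) + b' • A) : a = a' ∧ b = b' := by
  by_cases hb : b = b'
  · subst hb
    have := congrFun (congrFun h 0) 0
    simp at this
    exact ⟨this, rfl⟩
  · exfalso
    refine hA ((b - b')⁻¹ * (a' - a)) ?_
    have h' : (b - b') • A = (a' - a) • (1 : M2) := by linear_combination (norm := module) h
    rw [← smul_smul, ← h', smul_smul, inv_mul_cancel₀ (sub_ne_zero.2 hb), one_smul]

/-- The norm form attached to trace `t` and determinant `d`. -/
def normForm (t d : F) (x : F × F) : F := x.1 ^ 2 + t * x.1 * x.2 + d * x.2 ^ 2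

theorem det_smul_add (A : M2) (a b : F) :
    (a • (1 : M2) + b • A).det = normForm A.trace A.det (a, b) := by
  simp [normForm, Matrix.det_fin_two, Matrix.trace_fin_two]
  ring

theorem normForm_root {t d r : F} (hr : r ^ 2 - t * r + d = 0) (x : F × F) :
    normForm t d x = (x.1 + r * x.2) * (x.1 + (t - r) * x.2) := by
  simp only [normForm]
  linear_combination x.2 ^ 2 * hr

theorem root_of_normForm_zero {t d : F} {x : F × F} (h : normForm t d x = 0) (hx : x.2 ≠ 0) :
    (-x.1 / x.2) ^ 2 - t * (-x.1 / x.2) + d = 0 := by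
  simp only [normForm] at h
  field_simp
  linear_combination h

variable [Fintype F]

local notation "q" => Fintype.card F

theorem exists_normForm_eq {t d : F} (h : (2 : F) = 0 ∨ t ^ 2 ≠ 4 * d) (c : F) :
    ∃ x, normForm t d x = c := by
  by_cases h2 : (2 : F) = 0
  · have : CharP F 2 := CharTwo.of_one_ne_zero_of_two_eq_zero one_ne_zero h2
    obtain ⟨a, ha⟩ := FiniteField.isSquare_of_char_two (ringChar.eq F 2) c
    exact ⟨(a, 0), by simp [normForm, ha, pow_two]⟩
  · have hd : t ^ 2 ≠ 4 * d := h.resolve_left h2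
    have hF : ringChar F ≠ 2 := by
      intro e
      have h0 : ((2 : ℕ) : F) = 0 := by rw [ringChar.spec, e]
      exact h2 (by simpa using h0)
    have hs : 4 * d - t ^ 2 ≠ 0 := sub_ne_zero.2 (Ne.symm hd)
    obtain ⟨u, v, huv⟩ := FiniteField.exists_root_sum_quadratic
      (f := Polynomial.C (4 * d - t ^ 2) * Polynomial.X ^ 2)
      (g := Polynomial.X ^ 2 - Polynomial.C (4 * c))
      (Polynomial.degree_C_mul_X_pow 2 hs) (Polynomial.degree_X_pow_sub_C (by norm_num) _)
      (by rw [← Nat.odd_iff, Nat.odd_iff, ← FiniteField.odd_card_of_char_ne_two hF])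
    simp only [Polynomial.eval_mul, Polynomial.eval_C, Polynomial.eval_pow, Polynomial.eval_X,
      Polynomial.eval_sub] at huv
    have h4 : (4 : F) ≠ 0 := by
      rw [show (4 : F) = 2 * 2 by norm_num]; exact mul_ne_zero h2 h2
    refine ⟨((v - t * u) / 2, u), mul_left_cancel₀ h4 ?_⟩
    simp only [normForm]
    field_simp
    linear_combination huv

theorem card_zero_of_no_root {t d : F} (h : ∀ r : F, r ^ 2 - t * r + d ≠ 0) :
    Nat.card {x : F × F // normForm t d x = 0} = 1 := by
  have : ∀ x : F × F, normForm t d x = 0 ↔ x = 0 := by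
    refine fun x => ⟨fun hx => ?_, fun hx => by subst hx; simp [normForm]⟩
    by_cases h2 : x.2 = 0
    · have : x.1 = 0 := by simpa [normForm, h2] using hx
      exact Prod.ext this h2
    · exact absurd (root_of_normForm_zero hx h2) (h _)
  simp only [this, Nat.card_eq_fintype_card, Fintype.card_subtype_eq]

theorem card_zero_of_two_roots {t d r : F} (hr : r ^ 2 - t * r + d = 0) (ht : t ≠ 2 * r) :
    Nat.card {x : F × F // normForm t d x = 0} + 1 = 2 * q := by
  classical
  have hne : r - (t - r) ≠ 0 := fun e => ht (by linear_combination -e)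
  simp only [normForm_root hr, mul_eq_zero]
  rw [Nat.card_eq_fintype_card, Fintype.card_subtype]
  set S := Finset.univ.image (fun b : F => (-(r * b), b))
  set T := Finset.univ.image (fun b : F => (-((t - r) * b), b))
  have hmem : (Finset.univ.filter fun x : F × F => x.1 + r * x.2 = 0 ∨ x.1 + (t - r) * x.2 = 0) =
      S ∪ T := by
    ext ⟨a, b⟩
    simp [S, T, add_eq_zero_iff_eq_neg, eq_comm]
  have hST : S ∩ T = {0} := by
    ext ⟨a, b⟩
    simp only [S, T, Finset.mem_inter, Finset.mem_image, Finset.mem_univ, true_and,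
      Prod.mk.injEq, Finset.mem_singleton, Prod.mk_eq_zero]
    constructor
    · rintro ⟨⟨u, hu, rfl⟩, ⟨v, hv, rfl⟩⟩
      have : (r - (t - r)) * v = 0 := by linear_combination hv - hu
      rcases mul_eq_zero.1 this with e | e
      · exact absurd e hne
      · exact ⟨by rw [← hu, e]; simp, e⟩
    · rintro ⟨rfl, rfl⟩
      exact ⟨⟨0, by simp⟩, ⟨0, by simp⟩⟩
  have hS : S.card = q := by
    rw [Finset.card_image_of_injective _ (fun u v e => (Prod.ext_iff.1 e).2), Finset.card_univ]
  have hT : T.card = q := by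
    rw [Finset.card_image_of_injective _ (fun u v e => (Prod.ext_iff.1 e).2), Finset.card_univ]
  have := Finset.card_union_add_card_inter S T
  rw [hST, Finset.card_singleton, hS, hT] at this
  rw [hmem]
  omega

theorem card_zero_of_one_root {t d r : F} (hr : r ^ 2 - t * r + d = 0) (ht : t = 2 * r) :
    Nat.card {x : F × F // normForm t d x = 0} = q := by
  rw [← Nat.card_eq_fintype_card]
  refine Nat.card_congr
    ⟨fun x => x.1.2, fun b => ⟨(-(r * b), b), ?_⟩, fun x => ?_, fun b => rfl⟩
  · rw [normForm_root hr]; simp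
  · obtain ⟨⟨a, b⟩, h⟩ := x
    have ht' : t - r = r := by rw [ht]; ring
    rw [normForm_root hr, ht', mul_self_eq_zero] at h
    apply Subtype.ext
    simp only [Prod.mk.injEq, and_true]
    linear_combination -h

theorem roots_cases (t d : F) :
    (∀ r : F, r ^ 2 - t * r + d ≠ 0) ∨ (∃ r : F, r ^ 2 - t * r + d = 0 ∧ t ≠ 2 * r) ∨
      ∃ r : F, r ^ 2 - t * r + d = 0 ∧ t = 2 * r := by
  by_cases h : ∀ r : F, r ^ 2 - t * r + d ≠ 0
  · exact Or.inl h
  · simp only [not_forall, not_not] at h
    obtain ⟨r, hr⟩ := h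
    by_cases ht : t = 2 * r
    · exact Or.inr (Or.inr ⟨r, hr, ht⟩)
    · exact Or.inr (Or.inl ⟨r, hr, ht⟩)

/-- The centraliser in `GL_2` of a non-scalar element consists of the `a + b g` of non-zero norm. -/
theorem card_centralizer_GL_add {g : GL (Fin 2) F} (hg : Nonscalar (g : M2)) :
    Nat.card (Subgroup.centralizer ({g} : Set (GL (Fin 2) F))) +
      Nat.card {x : F × F // normForm (g : M2).trace (g : M2).det x = 0} = q * q := by
  classical
  set t := (g : M2).trace
  set d := (g : M2).det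
  have e : {x : F × F // normForm t d x ≠ 0} ≃ Subgroup.centralizer ({g} : Set (GL (Fin 2) F)) := by
    refine Equiv.ofBijective (fun x => ⟨Matrix.GeneralLinearGroup.mkOfDetNeZero
      (x.1.1 • (1 : M2) + x.1.2 • (g : M2)) (by rw [det_smul_add]; exact x.2), ?_⟩) ⟨?_, ?_⟩
    · rw [Subgroup.mem_centralizer_singleton_iff]
      apply Units.ext
      simp [Matrix.mul_add, Matrix.add_mul]
    · rintro ⟨⟨a, b⟩, _⟩ ⟨⟨a', b'⟩, _⟩ h
      have h' : a • (1 : M2) + b • (g : M2) = a' • (1 : M2) + b' • (g : M2) := by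
        simpa using congrArg (fun u => ((u.1 : GL (Fin 2) F) : M2)) h
      obtain ⟨rfl, rfl⟩ := coeff_inj hg h'
      rfl
    · rintro ⟨x, hx⟩
      rw [Subgroup.mem_centralizer_singleton_iff] at hx
      have hx' : (g : M2) * (x : M2) = (x : M2) * (g : M2) := by
        simpa using (congrArg (fun u : GL (Fin 2) F => (u : M2)) hx).symm
      obtain ⟨a, b, hab⟩ := (commute_iff hg).1 hx'
      refine ⟨⟨(a, b), ?_⟩, Subtype.ext (Units.ext (by simpa using hab.symm))⟩
      rw [← det_smul_add, ← hab]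
      exact Matrix.GeneralLinearGroup.det_ne_zero x
  rw [← Nat.card_congr e]
  simp only [Nat.card_eq_fintype_card, Fintype.card_subtype_compl]
  have := Fintype.card_subtype_le (fun x : F × F => normForm t d x = 0)
  rw [Fintype.card_prod] at this ⊢
  omega

theorem card_centralizer_GL_no_root {g : GL (Fin 2) F} (hg : Nonscalar (g : M2))
    (h : ∀ r : F, r ^ 2 - (g : M2).trace * r + (g : M2).det ≠ 0) :
    Nat.card (Subgroup.centralizer ({g} : Set (GL (Fin 2) F))) = q ^ 2 - 1 := by
  have := card_centralizer_GL_add hg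
  rw [card_zero_of_no_root h] at this
  rw [pow_two]; omega

theorem card_centralizer_GL_two_roots {g : GL (Fin 2) F} (hg : Nonscalar (g : M2)) {r : F}
    (hr : r ^ 2 - (g : M2).trace * r + (g : M2).det = 0) (ht : (g : M2).trace ≠ 2 * r) :
    Nat.card (Subgroup.centralizer ({g} : Set (GL (Fin 2) F))) = (q - 1) ^ 2 := by
  have h1 := card_centralizer_GL_add hg
  have h2 := card_zero_of_two_roots hr ht
  obtain ⟨k, hk⟩ : ∃ k, q = k + 1 := ⟨q - 1, by have := Fintype.card_pos (α := F); omega⟩
  rw [hk] at h1 h2 ⊢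
  simp only [Nat.add_sub_cancel]
  nlinarith

/-! ### Conjugacy in `GL_2` -/

theorem isConj_GL_iff {g h : GL (Fin 2) F} (hg : Nonscalar (g : M2)) (hh : Nonscalar (h : M2)) :
    IsConj g h ↔ (g : M2).trace = (h : M2).trace ∧ (g : M2).det = (h : M2).det := by
  constructor
  · intro hc
    obtain ⟨c, rfl⟩ := isConj_iff.1 hc
    constructor
    · rw [Units.val_mul, Units.val_mul, Matrix.trace_mul_comm, ← Matrix.mul_assoc, ← Units.val_mul,
        inv_mul_cancel, Units.val_one, Matrix.one_mul]
    · rw [Units.val_mul, Units.val_mul, Matrix.det_mul, Matrix.det_mul, mul_comm,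
        ← mul_assoc, ← Matrix.det_mul, ← Units.val_mul, inv_mul_cancel, Units.val_one,
        Matrix.det_one, one_mul]
  · rintro ⟨ht, hd⟩
    obtain ⟨P, hP, hPe⟩ := exists_intertwiner hh hg ht.symm hd.symm
    refine isConj_iff.2 ⟨Matrix.GeneralLinearGroup.mkOfDetNeZero P hP, ?_⟩
    rw [mul_inv_eq_iff_eq_mul]
    exact Units.ext (by simpa using hPe.symm)

/-! ### `SL_2` -/

theorem nonscalar_toGL {g : SL(2, F)} (hg : Nonscalar (g : M2)) :
    Nonscalar ((Matrix.SpecialLinearGroup.toGL g : GL (Fin 2) F) : M2) := hg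

theorem normForm_det_one (g : SL(2, F)) (a b : F) :
    (a • (1 : M2) + b • (g : M2)).det = normForm (g : M2).trace 1 (a, b) := by
  rw [det_smul_add, g.det_coe]

/-- The centraliser in `SL_2` of a non-scalar element. -/
noncomputable def centralizerSLEquiv {g : SL(2, F)} (hg : Nonscalar (g : M2)) :
    {x : F × F // normForm (g : M2).trace 1 x = 1} ≃
      Subgroup.centralizer ({g} : Set SL(2, F)) := by
  refine Equiv.ofBijective (fun x => ⟨⟨x.1.1 • (1 : M2) + x.1.2 • (g : M2),
    by rw [normForm_det_one]; exact x.2⟩, ?_⟩) ⟨?_, ?_⟩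
  · refine Subgroup.mem_centralizer_singleton_iff.2 ?_
    apply Subtype.ext
    show (x.1.1 • (1 : M2) + x.1.2 • (g : M2)) * (g : M2) = (g : M2) * (x.1.1 • (1 : M2) + x.1.2 • (g : M2))
    simp [Matrix.mul_add, Matrix.add_mul]
  · rintro ⟨⟨a, b⟩, _⟩ ⟨⟨a', b'⟩, _⟩ h
    have h' : a • (1 : M2) + b • (g : M2) = a' • (1 : M2) + b' • (g : M2) :=
      congrArg (fun u => ((u.1 : SL(2, F)) : M2)) h
    obtain ⟨rfl, rfl⟩ := coeff_inj hg h'
    rfl
  · rintro ⟨x, hx⟩
    rw [Subgroup.mem_centralizer_singleton_iff] at hx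
    have hx' : (g : M2) * (x : M2) = (x : M2) * (g : M2) := by
      simpa using (congrArg (fun u : SL(2, F) => (u : M2)) hx).symm
    obtain ⟨a, b, hab⟩ := (commute_iff hg).1 hx'
    refine ⟨⟨(a, b), ?_⟩, Subtype.ext (Subtype.ext hab.symm)⟩
    rw [← normForm_det_one, ← hab]
    exact x.det_coe

theorem card_fiber_mul {t d : F} (h : (2 : F) = 0 ∨ t ^ 2 ≠ 4 * d) :
    Nat.card {x : F × F // normForm t d x = 1} * (q - 1) =
      Nat.card {x : F × F // normForm t d x ≠ 0} := by
  classical
  have hmul : ∀ x y : F × F, normForm t d (x.1 * y.1 - d * (x.2 * y.2),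
      x.1 * y.2 + x.2 * y.1 + t * (x.2 * y.2)) = normForm t d x * normForm t d y := by
    intro x y; simp only [normForm]; ring
  have hfib : ∀ c : F, c ≠ 0 → Nat.card {x : F × F // normForm t d x = c} =
      Nat.card {x : F × F // normForm t d x = 1} := by
    intro c hc
    obtain ⟨z, hz⟩ := exists_normForm_eq h c
    obtain ⟨w, hw⟩ := exists_normForm_eq h c⁻¹
    set m : F × F → F × F → F × F := fun x y => (x.1 * y.1 - d * (x.2 * y.2),
      x.1 * y.2 + x.2 * y.1 + t * (x.2 * y.2))
    have key : ∀ (u : F × F) (a : F), normForm t d u ≠ 0 →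
        Nat.card {x : F × F // normForm t d x = a} ≤
          Nat.card {x : F × F // normForm t d x = normForm t d u * a} := by
      intro u a hu
      refine Nat.card_le_card_of_injective
        (fun x => ⟨m u x.1, by rw [hmul, x.2]⟩) ?_
      rintro ⟨x, _⟩ ⟨y, _⟩ hxy
      have h1 := congrArg (fun s => s.1.1) hxy
      have h2 := congrArg (fun s => s.1.2) hxy
      simp only [m] at h1 h2
      have e1 : normForm t d u * (x.1 - y.1) = 0 := by
        simp only [normForm]
        linear_combination (u.1 + t * u.2) * h1 + d * u.2 * h2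
      have e2 : normForm t d u * (x.2 - y.2) = 0 := by
        simp only [normForm]
        linear_combination u.1 * h2 - u.2 * h1
      rcases mul_eq_zero.1 e1 with e | e
      · exact absurd e hu
      rcases mul_eq_zero.1 e2 with e' | e'
      · exact absurd e' hu
      exact Subtype.ext (Prod.ext (sub_eq_zero.1 e) (sub_eq_zero.1 e'))
    refine le_antisymm ?_ ?_
    · have := key w c (by rw [hw]; exact inv_ne_zero hc)
      rwa [hw, inv_mul_cancel₀ hc] at this
    · have := key z 1 (by rw [hz]; exact hc)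
      rwa [hz, mul_one] at this
  have e : {x : F × F // normForm t d x ≠ 0} ≃
      Σ c : {c : F // c ≠ 0}, {x : F × F // normForm t d x = c.1} :=
    { toFun := fun x => ⟨⟨_, x.2⟩, ⟨x.1, rfl⟩⟩
      invFun := fun s => ⟨s.2.1, by rw [s.2.2]; exact s.1.2⟩
      left_inv := fun x => rfl
      right_inv := fun s => by
        obtain ⟨⟨c, hc⟩, ⟨x, hx⟩⟩ := s
        change normForm t d x = c at hx
        subst hx
        rfl }
  rw [Nat.card_congr e, Nat.card_sigma, Finset.sum_congr rfl (fun c _ => hfib c.1 c.2),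
    Finset.sum_const, Finset.card_univ, smul_eq_mul, mul_comm]
  congr 1
  simp [Fintype.card_subtype_compl]

theorem discr_of_root {t r : F} (hr : r ^ 2 - t * r + 1 = 0) (ht : t ≠ 2 * r) :
    (2 : F) = 0 ∨ t ^ 2 ≠ 4 * 1 := Or.inr fun e => ht (by
  have : (t - 2 * r) ^ 2 = 0 := by linear_combination e + 4 * hr
  linear_combination pow_eq_zero_iff (n := 2) two_ne_zero |>.1 this)

theorem discr_of_no_root {t : F} (h : ∀ r : F, r ^ 2 - t * r + 1 ≠ 0) :
    (2 : F) = 0 ∨ t ^ 2 ≠ 4 * 1 := by
  by_cases h2 : (2 : F) = 0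
  · exact Or.inl h2
  · exact Or.inr fun e => h (t / 2) (by field_simp; linear_combination -e)

theorem card_centralizer_SL_no_root {g : SL(2, F)} (hg : Nonscalar (g : M2))
    (h : ∀ r : F, r ^ 2 - (g : M2).trace * r + 1 ≠ 0) :
    Nat.card (Subgroup.centralizer ({g} : Set SL(2, F))) = q + 1 := by
  classical
  rw [← Nat.card_congr (centralizerSLEquiv hg)]
  have h1 := card_fiber_mul (discr_of_no_root h)
  have h2 := card_zero_of_no_root h
  have hq : 2 ≤ q := Fintype.one_lt_card
  have h3 : Nat.card {x : F × F // normForm (g : M2).trace 1 x ≠ 0} + 1 = q * q := by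
    simp only [Nat.card_eq_fintype_card, Fintype.card_subtype_compl] at h2 ⊢
    rw [h2, Fintype.card_prod]
    have : 1 ≤ q * q := by nlinarith
    omega
  obtain ⟨k, hk⟩ : ∃ k, q = k + 1 := ⟨q - 1, by omega⟩
  rw [hk] at h1 h3 hq ⊢
  simp only [Nat.add_sub_cancel] at h1
  have hk0 : 0 < k := by omega
  refine Nat.eq_of_mul_eq_mul_right hk0 ?_
  nlinarith

theorem card_centralizer_SL_two_roots {g : SL(2, F)} (hg : Nonscalar (g : M2)) {r : F}
    (hr : r ^ 2 - (g : M2).trace * r + 1 = 0) (ht : (g : M2).trace ≠ 2 * r) :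
    Nat.card (Subgroup.centralizer ({g} : Set SL(2, F))) = q - 1 := by
  classical
  rw [← Nat.card_congr (centralizerSLEquiv hg)]
  have h1 := card_fiber_mul (discr_of_root hr ht)
  have h2 := card_zero_of_two_roots hr ht
  have hq : 2 ≤ q := Fintype.one_lt_card
  have h3 : Nat.card {x : F × F // normForm (g : M2).trace 1 x ≠ 0} + 2 * q = q * q + 1 := by
    have hle := Fintype.card_subtype_le (fun x : F × F => normForm (g : M2).trace 1 x = 0)
    simp only [Nat.card_eq_fintype_card, Fintype.card_subtype_compl] at h2 ⊢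
    rw [Fintype.card_prod] at hle ⊢
    omega
  obtain ⟨k, hk⟩ : ∃ k, q = k + 1 := ⟨q - 1, by omega⟩
  rw [hk] at h1 h3 hq ⊢
  simp only [Nat.add_sub_cancel] at h1 ⊢
  have hk0 : 0 < k := by omega
  refine Nat.eq_of_mul_eq_mul_right hk0 ?_
  nlinarith

theorem card_centralizer_SL_one_root {g : SL(2, F)} (hg : Nonscalar (g : M2)) {r : F}
    (hr : r ^ 2 - (g : M2).trace * r + 1 = 0) (ht : (g : M2).trace = 2 * r) :
    Nat.card (Subgroup.centralizer ({g} : Set SL(2, F))) =
      Nat.card {e : F // e ^ 2 = 1} * q := by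
  rw [← Nat.card_congr (centralizerSLEquiv hg), ← Nat.card_eq_fintype_card, ← Nat.card_prod]
  have ht' : (g : M2).trace - r = r := by rw [ht]; ring
  exact Nat.card_congr
    { toFun := fun x => (⟨x.1.1 + r * x.1.2, by
        have := x.2; rw [normForm_root hr, ht'] at this; rw [pow_two]; exact this⟩, x.1.2)
      invFun := fun y => ⟨(y.1.1 - r * y.2, y.2), by
        rw [normForm_root hr, ht']; simp only [sub_add_cancel]; rw [← pow_two]; exact y.1.2⟩
      left_inv := fun x => by ext <;> simp
      right_inv := fun y => by ext <;> simp }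

theorem card_sq_one_odd (h2 : (2 : F) ≠ 0) : Nat.card {e : F // e ^ 2 = 1} = 2 := by
  classical
  have hne : (1 : F) ≠ -1 := fun e => h2 (by linear_combination e)
  rw [Nat.card_eq_fintype_card, Fintype.card_subtype,
    show (Finset.univ.filter fun e : F => e ^ 2 = 1) = {1, -1} by ext; simp,
    Finset.card_pair hne]

theorem card_sq_one_even (h2 : (2 : F) = 0) : Nat.card {e : F // e ^ 2 = 1} = 1 := by
  classical
  have hne : (1 : F) = -1 := by linear_combination h2
  rw [Nat.card_eq_fintype_card, Fintype.card_subtype,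
    show (Finset.univ.filter fun e : F => e ^ 2 = 1) = {1} by
      ext e; simp only [Finset.mem_filter, Finset.mem_univ, true_and, sq_eq_one_iff,
        Finset.mem_singleton, ← hne, or_self],
    Finset.card_singleton]

/-- Conjugacy in `SL_2` through an intertwiner: the obstruction is the norm of the centraliser. -/
theorem isConj_SL_iff {g h : SL(2, F)} (hg : Nonscalar (g : M2)) {P : M2} (hP : P.det ≠ 0)
    (hPe : (g : M2) * P = P * (h : M2)) :
    IsConj g h ↔ ∃ x : F × F, normForm (g : M2).trace 1 x * P.det = 1 := by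
  constructor
  · intro hc
    obtain ⟨c, hc⟩ := isConj_iff.1 hc
    have hc' : (c : M2) * (g : M2) = (h : M2) * (c : M2) := by
      have : c * g = h * c := by rw [← hc]; group
      simpa using congrArg (fun u : SL(2, F) => (u : M2)) this
    have hcomm : (g : M2) * (P * (c : M2)) = (P * (c : M2)) * (g : M2) := by
      rw [← Matrix.mul_assoc, hPe, Matrix.mul_assoc, ← hc', Matrix.mul_assoc]
    obtain ⟨a, b, hab⟩ := (commute_iff hg).1 hcomm
    have hN : normForm (g : M2).trace 1 (a, b) = P.det := by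
      rw [← normForm_det_one, ← hab, Matrix.det_mul, c.det_coe, mul_one]
    refine ⟨(P.det⁻¹ * a, P.det⁻¹ * b), ?_⟩
    have : normForm (g : M2).trace 1 (P.det⁻¹ * a, P.det⁻¹ * b) =
        P.det⁻¹ ^ 2 * normForm (g : M2).trace 1 (a, b) := by simp only [normForm]; ring
    rw [this, hN]; field_simp
  · rintro ⟨⟨a, b⟩, hab⟩
    let s : SL(2, F) := ⟨(a • (1 : M2) + b • (g : M2)) * P, by
      rw [Matrix.det_mul, normForm_det_one, hab]⟩
    refine (isConj_iff.2 ⟨s, ?_⟩).symm
    rw [mul_inv_eq_iff_eq_mul]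
    apply Subtype.ext
    show (a • (1 : M2) + b • (g : M2)) * P * (h : M2) = (g : M2) * ((a • (1 : M2) + b • (g : M2)) * P)
    rw [Matrix.mul_assoc, ← hPe, ← Matrix.mul_assoc, ← Matrix.mul_assoc]
    congr 1
    simp [Matrix.mul_add, Matrix.add_mul]

theorem trace_eq_of_isConj {g h : SL(2, F)} (hc : IsConj g h) :
    (g : M2).trace = (h : M2).trace := by
  obtain ⟨c, rfl⟩ := isConj_iff.1 hc
  rw [Matrix.SpecialLinearGroup.coe_mul, Matrix.SpecialLinearGroup.coe_mul, Matrix.trace_mul_comm,
    ← Matrix.mul_assoc, ← Matrix.SpecialLinearGroup.coe_mul, inv_mul_cancel,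
    Matrix.SpecialLinearGroup.coe_one, Matrix.one_mul]

theorem isConj_SL_of_trace {g h : SL(2, F)} (hg : Nonscalar (g : M2)) (hh : Nonscalar (h : M2))
    (ht : (g : M2).trace = (h : M2).trace)
    (hs : (2 : F) = 0 ∨ (g : M2).trace ^ 2 ≠ 4 * 1) : IsConj g h := by
  obtain ⟨P, hP, hPe⟩ := exists_intertwiner hg hh ht (by rw [g.det_coe, h.det_coe])
  obtain ⟨x, hx⟩ := exists_normForm_eq hs P.det⁻¹
  exact (isConj_SL_iff hg hP hPe).2 ⟨x, by rw [hx, inv_mul_cancel₀ hP]⟩

theorem card_carrier_mul {G : Type*} [Group G] (g : G) :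
    Nat.card (ConjClasses.mk g).carrier * Nat.card (Subgroup.centralizer ({g} : Set G)) =
      Nat.card G := by
  rw [Subgroup.nat_card_centralizer_nat_card_stabilizer, ← ConjAct.orbit_eq_carrier_conjClasses,
    ← Nat.card_prod, Nat.card_congr (MulAction.orbitProdStabilizerEquivGroup (ConjAct G) g)]
  exact Nat.card_congr ConjAct.ofConjAct.toEquiv

theorem centralizer_SL_cases {g : SL(2, F)} (hg : Nonscalar (g : M2)) :
    ((∀ r : F, r ^ 2 - (g : M2).trace * r + 1 ≠ 0) ∧
      Nat.card (Subgroup.centralizer ({g} : Set SL(2, F))) = q + 1) ∨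
    ((∃ r : F, r ^ 2 - (g : M2).trace * r + 1 = 0 ∧ (g : M2).trace ≠ 2 * r) ∧
      Nat.card (Subgroup.centralizer ({g} : Set SL(2, F))) = q - 1) ∨
    ((∃ r : F, r ^ 2 = 1 ∧ (g : M2).trace = 2 * r) ∧
      Nat.card (Subgroup.centralizer ({g} : Set SL(2, F))) =
        Nat.card {e : F // e ^ 2 = 1} * q) := by
  rcases roots_cases (g : M2).trace 1 with h | ⟨r, hr, ht⟩ | ⟨r, hr, ht⟩
  · exact Or.inl ⟨h, card_centralizer_SL_no_root hg h⟩
  · exact Or.inr (Or.inl ⟨⟨r, hr, ht⟩, card_centralizer_SL_two_roots hg hr ht⟩)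
  · exact Or.inr (Or.inr ⟨⟨r, by rw [ht] at hr; linear_combination -hr, ht⟩,
      card_centralizer_SL_one_root hg hr ht⟩)

theorem cayley_hamilton (g : SL(2, F)) :
    (g : M2) * (g : M2) = (g : M2).trace • (g : M2) - (1 : M2) := by
  have h := g.det_coe
  rw [Matrix.det_fin_two] at h
  ext i j
  fin_cases i <;> fin_cases j <;>
    simp [Matrix.mul_apply, Fin.sum_univ_two, Matrix.trace_fin_two] <;>
    first | linear_combination -h | ring

theorem scalar_SL {g : SL(2, F)} (hg : ¬ Nonscalar (g : M2)) :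
    ∃ c : F, c ^ 2 = 1 ∧ (g : M2) = c • (1 : M2) := by
  simp only [Nonscalar, not_forall, not_not] at hg
  obtain ⟨c, hc⟩ := hg
  refine ⟨c, ?_, hc⟩
  have h := g.det_coe
  rwa [hc, Matrix.det_smul, Matrix.det_one, Fintype.card_fin, mul_one] at h

theorem mem_center_iff_scalar {g : SL(2, F)} :
    g ∈ Subgroup.center SL(2, F) ↔ ¬ Nonscalar (g : M2) := by
  rw [Matrix.SpecialLinearGroup.mem_center_iff]
  constructor
  · rintro ⟨c, -, hc⟩ h
    exact h c (by rw [← hc, Matrix.smul_one_eq_diagonal, Matrix.scalar_apply])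
  · intro h
    obtain ⟨c, hc, hg⟩ := scalar_SL h
    exact ⟨c, by rwa [Fintype.card_fin], by rw [hg, Matrix.smul_one_eq_diagonal, Matrix.scalar_apply]⟩

/-- The element with the given trace in companion form. -/
def companionSL (t : F) : SL(2, F) := ⟨companion t 1, det_companion t 1⟩

theorem companionSL_val (t : F) : (companionSL t : M2) = companion t 1 := rfl

theorem isSquare_mul_of_nonsquare (h2 : (2 : F) ≠ 0) {a b : F} (ha : ¬ IsSquare a) (hb : ¬ IsSquare b) :
    IsSquare (a * b) := by
  classical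
  have hab : a * b ≠ 0 :=
    mul_ne_zero (by rintro rfl; exact ha ⟨0, by simp⟩) (by rintro rfl; exact hb ⟨0, by simp⟩)
  have hF : ringChar F ≠ 2 := fun e => h2 (by
    have h0 : ((2 : ℕ) : F) = 0 := by rw [ringChar.spec, e]
    simpa using h0)
  refine (quadraticChar_one_iff_isSquare hab).1 ?_
  rw [map_mul, quadraticChar_neg_one_iff_not_isSquare.2 ha,
    quadraticChar_neg_one_iff_not_isSquare.2 hb]
  rfl

/-- An element of order `p` in characteristic `p` is unipotent. -/
theorem trace_of_pow_char (p : ℕ) [Fact p.Prime] [CharP F p] {A : M2} (hA : A ^ p = 1)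
    (h1 : A ≠ 1) : A.trace = 2 ∧ A.det = 1 ∧ Nonscalar A := by
  have hN : (A - 1) ^ p = 0 := by
    rw [sub_pow_char_of_commute p (Commute.one_right A), hA, one_pow, sub_self]
  have htr : (A - 1).trace = 0 :=
    (Matrix.isNilpotent_trace_of_isNilpotent ⟨p, hN⟩).eq_zero
  have hp : p ≠ 0 := (Fact.out : p.Prime).ne_zero
  have hdet : (A - 1).det = 0 := by
    have := congrArg Matrix.det hN
    rw [Matrix.det_pow, Matrix.det_zero, pow_eq_zero_iff hp] at this
    exact this
  simp only [Matrix.trace_fin_two, Matrix.det_fin_two, Matrix.sub_apply, Matrix.one_apply_eq,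
    Matrix.one_apply_ne (show (0 : Fin 2) ≠ 1 by decide),
    Matrix.one_apply_ne (show (1 : Fin 2) ≠ 0 by decide), sub_zero] at htr hdet
  refine ⟨by rw [Matrix.trace_fin_two]; linear_combination htr,
    by rw [Matrix.det_fin_two]; linear_combination hdet + htr, fun c hc => h1 ?_⟩
  subst hc
  simp at htr hdet
  have : c = 1 := by linear_combination hdet
  rw [this, one_smul]

end Cfsg.Agent.Linear.Classes
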