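import Cfsg.Agent.SmallGroups.Basic

/-!
Every simple group of order 60 is isomorphic to `A_5`.
-/

set_option autoImplicit false

namespace Cfsg.Agent.Linear

theorem simple_order_sixty_iso {G : Type*} [Group G] [Finite G] [IsSimpleGroup G]
    (h : Nat.card G = 60) : Nonempty (G ≃* alternatingGroup (Fin 5)) := by
  have hG : ¬ IsMulCommutative G :=
    SmallGroups.not_isMulCommutative (by rw [h]; norm_num)
  obtain ⟨P⟩ := Sylow.nonempty (p := 2) (G := G)
  have h4 : Nat.card (P : Subgroup G) = 4 :=
    SmallGroups.card_sylow_subgroup (a := 2) (m := 15) (by omega) (by norm_num) P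
  have hmem := SmallGroups.card_sylow_mem hG (p := 2) (a := 1) (m := 15) (by omega) (by omega)
  have hdvd := SmallGroups.two_mul_card_dvd_factorial_card_sylow hG (p := 2) (by rw [h]; norm_num)
  rw [h] at hdvd
  have hcard : Nat.card (Sylow 2 G) = 5 ∨ Nat.card (Sylow 2 G) = 15 := by
    have : ∀ n ∈ (15 : ℕ).divisors.filter (fun n => n % 2 = 1 ∧ 1 < n),
        n = 3 ∨ n = 5 ∨ n = 15 := by decide
    rcases this _ hmem with h3 | h5 | h15
    · rw [h3] at hdvd; norm_num [Nat.factorial] at hdvd
    · exact Or.inl h5
    · exact Or.inr h15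
  rcases hcard with h5 | h15
  · set N := Subgroup.normalizer ((P : Subgroup G) : Set G) with hN
    have hi : N.index = 5 := (Sylow.card_eq_index_normalizer P).symm.trans h5
    have hne : N ≠ ⊤ := fun ht => by rw [ht, Subgroup.index_top] at hi; omega
    obtain ⟨f, hf⟩ : ∃ f : G →* alternatingGroup (Fin 5), Function.Injective f := by
      have := SmallGroups.exists_embedding_alternating hG N hne
      rwa [hi] at this
    refine ⟨MulEquiv.ofBijective f (hf.bijective_of_nat_card_le ?_)⟩
    have h2 : 2 * Nat.card (alternatingGroup (Fin 5)) = (5 : ℕ).factorial := by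
      rw [two_mul_nat_card_alternatingGroup, Nat.card_perm, Nat.card_fin]
    rw [show (5 : ℕ).factorial = 120 from rfl] at h2
    omega
  · exfalso
    refine SmallGroups.not_normalizer_le_centralizer hG (p := 2) (by rw [h]; norm_num) P ?_
    have hmul := SmallGroups.card_sylow_mul_card_normalizer P
    rw [h15, h] at hmul
    have heq : (P : Subgroup G) = Subgroup.normalizer ((P : Subgroup G) : Set G) :=
      Subgroup.eq_of_le_of_card_ge Subgroup.le_normalizer (by omega)
    rw [← heq]
    have : IsMulCommutative (P : Subgroup G) :=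
      IsPGroup.isMulCommutative_of_card_eq_prime_sq (p := 2) (by rw [h4]; norm_num)
    exact Subgroup.le_centralizer _

end Cfsg.Agent.Linear
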