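import Cfsg.Agent.Linear.Classes

/-!
Centralisers in `PSL_2` over a finite field.
-/

set_option autoImplicit false
set_option linter.unusedSectionVars false
set_option linter.unusedSimpArgs false

namespace Cfsg.Agent.Linear.Classes

open Matrix
open scoped MatrixGroups

variable {F : Type*} [Field F] [Fintype F]

local notation "M2" => Matrix (Fin 2) (Fin 2) F
local notation "q" => Fintype.card F
local notation "L2" => Matrix.ProjectiveSpecialLinearGroup (Fin 2) F

/-- The projection `SL_2 → PSL_2`. -/
abbrev proj : SL(2, F) →* L2 := QuotientGroup.mk' _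

theorem proj_surjective : Function.Surjective (proj : SL(2, F) →* L2) :=
  QuotientGroup.mk'_surjective _

theorem proj_eq_one_iff {g : SL(2, F)} : proj g = 1 ↔ ¬ Nonscalar (g : M2) :=
  (QuotientGroup.eq_one_iff g).trans mem_center_iff_scalar

theorem proj_eq_iff {g h : SL(2, F)} :
    proj g = proj h ↔ (h : M2) = (g : M2) ∨ (h : M2) = -(g : M2) := by
  rw [QuotientGroup.mk'_apply, QuotientGroup.mk'_apply, QuotientGroup.eq, mem_center_iff_scalar]
  constructor
  · intro hn
    obtain ⟨c, hc, hm⟩ := scalar_SL hn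
    have : (h : M2) = c • (g : M2) := by
      have e : h = g * (g⁻¹ * h) := (mul_inv_cancel_left g h).symm
      rw [e, Matrix.SpecialLinearGroup.coe_mul, hm, Matrix.mul_smul, Matrix.mul_one]
    rcases sq_eq_one_iff.1 hc with rfl | rfl
    · exact Or.inl (by simpa using this)
    · exact Or.inr (by simpa using this)
  · rintro (e | e) hn
    · exact hn 1 (by rw [show h = g from Subtype.ext e, inv_mul_cancel, one_smul, Matrix.SpecialLinearGroup.coe_one])
    · refine hn (-1) ?_
      rw [Matrix.SpecialLinearGroup.coe_mul, e, Matrix.mul_neg, ← Matrix.SpecialLinearGroup.coe_mul,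
        inv_mul_cancel, Matrix.SpecialLinearGroup.coe_one, neg_one_smul]

theorem mem_comap_centralizer {g x : SL(2, F)} :
    x ∈ (Subgroup.centralizer ({proj g} : Set L2)).comap proj ↔
      (g : M2) * (x : M2) = (x : M2) * (g : M2) ∨ (g : M2) * (x : M2) = -((x : M2) * (g : M2)) := by
  rw [Subgroup.mem_comap, Subgroup.mem_centralizer_singleton_iff, ← map_mul, ← map_mul, proj_eq_iff]
  rfl

theorem mem_centralizer_iff {g x : SL(2, F)} :
    x ∈ Subgroup.centralizer ({g} : Set SL(2, F)) ↔ (g : M2) * (x : M2) = (x : M2) * (g : M2) := by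
  rw [Subgroup.mem_centralizer_singleton_iff]
  constructor
  · intro h
    have := congrArg (fun u : SL(2, F) => (u : M2)) h
    simpa using this.symm
  · intro h
    exact Subtype.ext h.symm

theorem centralizer_le_comap (g : SL(2, F)) :
    Subgroup.centralizer ({g} : Set SL(2, F)) ≤
      (Subgroup.centralizer ({proj g} : Set L2)).comap proj :=
  fun _ hx => mem_comap_centralizer.2 (Or.inl (mem_centralizer_iff.1 hx))

/-- If the trace is non-zero or the characteristic is `2`, centralisers do not grow in `PSL_2`. -/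
theorem index_centralizer_proj {g : SL(2, F)} (h : (2 : F) = 0 ∨ (g : M2).trace ≠ 0) :
    (Subgroup.centralizer ({proj g} : Set L2)).index =
      (Subgroup.centralizer ({g} : Set SL(2, F))).index := by
  rw [← Subgroup.index_comap_of_surjective _ (proj_surjective (F := F))]
  congr 1
  refine le_antisymm (fun x hx => mem_centralizer_iff.2 ?_) (centralizer_le_comap g)
  rcases mem_comap_centralizer.1 hx with e | e
  · exact e
  · by_cases h2 : (2 : F) = 0
    · rw [e]
      ext i j
      rw [Matrix.neg_apply]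
      linear_combination -(((x : M2) * (g : M2)) i j) * h2
    · exfalso
      have ht : (g : M2).trace ≠ 0 := h.resolve_left h2
      have h1 : (x : M2) * (g : M2) * ((x⁻¹ : SL(2, F)) : M2) = -(g : M2) := by
        rw [← neg_neg ((x : M2) * (g : M2)), ← e, Matrix.neg_mul, Matrix.mul_assoc,
          ← Matrix.SpecialLinearGroup.coe_mul, mul_inv_cancel, Matrix.SpecialLinearGroup.coe_one,
          Matrix.mul_one]
      have h2' := congrArg Matrix.trace h1
      rw [Matrix.trace_neg, Matrix.trace_mul_comm, ← Matrix.mul_assoc,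
        ← Matrix.SpecialLinearGroup.coe_mul, inv_mul_cancel, Matrix.SpecialLinearGroup.coe_one,
        Matrix.one_mul] at h2'
      exact ht (mul_left_cancel₀ h2 (by linear_combination h2'))

/-- For trace zero in odd characteristic the centraliser doubles. -/
theorem index_centralizer_proj_zero {g : SL(2, F)} (h2 : (2 : F) ≠ 0)
    (ht : (g : M2).trace = 0) :
    2 * (Subgroup.centralizer ({proj g} : Set L2)).index =
      (Subgroup.centralizer ({g} : Set SL(2, F))).index := by
  have hn : Nonscalar (g : M2) := by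
    intro c hc
    have h := g.det_coe
    rw [hc] at ht h
    simp [Matrix.trace_fin_two, h2] at ht
    subst ht; simp at h
  let g' : SL(2, F) := ⟨-(g : M2), by rw [Matrix.det_neg, g.det_coe]; simp⟩
  have hn' : Nonscalar (g' : M2) := fun c hc => hn (-c) (by
    have : (g : M2) = -(c • (1 : M2)) := by rw [← hc]; simp [g']
    rw [this, neg_smul])
  obtain ⟨x0, hx0⟩ := isConj_iff.1 (isConj_SL_of_trace hn hn'
    (by rw [show (g' : M2) = -(g : M2) from rfl, Matrix.trace_neg, ht, neg_zero])
    (Or.inr (by
      rw [ht]; intro e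
      exact h2 (mul_self_eq_zero.1 (by linear_combination -e)))))
  have hx0' : (x0 : M2) * (g : M2) = -((g : M2) * (x0 : M2)) := by
    have : x0 * g = g' * x0 := by rw [← hx0]; group
    have := congrArg (fun u : SL(2, F) => (u : M2)) this
    rw [Matrix.SpecialLinearGroup.coe_mul, Matrix.SpecialLinearGroup.coe_mul,
      show (g' : M2) = -(g : M2) from rfl, Matrix.neg_mul] at this
    exact this
  set C := Subgroup.centralizer ({g} : Set SL(2, F))
  set K := (Subgroup.centralizer ({proj g} : Set L2)).comap proj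
  have hK : ∀ b ∈ K, Xor (b * x0 ∈ C) (b ∈ C) := by
    intro b hb
    simp only [C, mem_centralizer_iff, Matrix.SpecialLinearGroup.coe_mul]
    have hne : ¬ ((g : M2) * (b : M2) = (b : M2) * (g : M2) ∧
        (g : M2) * (b : M2) = -((b : M2) * (g : M2))) := by
      rintro ⟨e1, e2⟩
      have e3 : (g : M2) * (b : M2) = 0 := by
        rw [← e1] at e2
        ext i j
        have := congrFun (congrFun e2 i) j
        rw [Matrix.neg_apply] at this
        exact mul_left_cancel₀ h2 (by rw [Matrix.zero_apply]; linear_combination this)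
      have := congrArg Matrix.det e3
      rw [Matrix.det_mul, g.det_coe, b.det_coe, Matrix.det_zero] at this
      simp at this
    have key : ∀ (s : F), (g : M2) * (b : M2) = s • ((b : M2) * (g : M2)) →
        (g : M2) * ((b : M2) * (x0 : M2)) = (-s) • ((b : M2) * (x0 : M2) * (g : M2)) := by
      intro s hs
      rw [← Matrix.mul_assoc, hs, Matrix.smul_mul, Matrix.mul_assoc, Matrix.mul_assoc (b : M2) (x0 : M2),
        hx0', Matrix.mul_neg, neg_smul, smul_neg, neg_neg]
    rcases mem_comap_centralizer.1 hb with e | e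
    · refine Or.inr ⟨e, fun e' => ?_⟩
      have h3 := key 1 (by rwa [one_smul])
      rw [← Matrix.mul_assoc] at e' h3
      rw [Matrix.mul_assoc (g : M2)] at e' h3
      rw [e', neg_one_smul] at h3
      have h4 : (b : M2) * (x0 : M2) * (g : M2) = 0 := by
        ext i j
        have := congrFun (congrFun h3 i) j
        rw [Matrix.neg_apply] at this
        exact mul_left_cancel₀ h2 (by rw [Matrix.zero_apply]; linear_combination this)
      have := congrArg Matrix.det h4
      rw [Matrix.det_mul, Matrix.det_mul, g.det_coe, b.det_coe, x0.det_coe, Matrix.det_zero] at this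
      simp at this
    · exact Or.inl ⟨by simpa using key (-1) (by rwa [neg_one_smul]), fun e' => hne ⟨e', e⟩⟩
  have h2i : C.relIndex K = 2 := by
    rw [Subgroup.relIndex, Subgroup.index_eq_two_iff]
    exact ⟨⟨x0, mem_comap_centralizer.2 (Or.inr (by rw [hx0', neg_neg]))⟩, fun b => hK b.1 b.2⟩
  rw [← Subgroup.relIndex_mul_index (centralizer_le_comap g), h2i,
    Subgroup.index_comap_of_surjective _ (proj_surjective (F := F))]

theorem index_centralizer_SL (g : SL(2, F)) :
    (Subgroup.centralizer ({g} : Set SL(2, F))).index *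
      Nat.card (Subgroup.centralizer ({g} : Set SL(2, F))) = q * (q - 1) * (q + 1) := by
  rw [Subgroup.index_mul_card, card_SL_two]

theorem orderOf_dvd_card_centralizer (g : SL(2, F)) :
    orderOf g ∣ Nat.card (Subgroup.centralizer ({g} : Set SL(2, F))) := by
  rw [← Nat.card_zpowers]
  refine Subgroup.card_dvd_of_le ?_
  rw [Subgroup.zpowers_le]
  exact Subgroup.mem_centralizer_singleton_iff.2 rfl

theorem pow_four_of_trace_zero {g : SL(2, F)} (ht : (g : M2).trace = 0) : g ^ 4 = 1 := by
  have h : (g : M2) * (g : M2) = -1 := by rw [cayley_hamilton, ht, zero_smul, zero_sub]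
  apply Subtype.ext
  show ((g ^ 4 : SL(2, F)) : M2) = 1
  rw [Matrix.SpecialLinearGroup.coe_pow, show 4 = 2 * 2 from rfl, pow_mul, pow_two, pow_two, h]
  simp

theorem sq_one_of_scalar {g : SL(2, F)} (hg : ¬ Nonscalar (g : M2)) : g ^ 2 = 1 := by
  obtain ⟨c, hc, he⟩ := scalar_SL hg
  apply Subtype.ext
  show ((g ^ 2 : SL(2, F)) : M2) = 1
  rw [Matrix.SpecialLinearGroup.coe_pow, he, _root_.smul_pow, one_pow, hc, one_smul]

theorem card_sq_one_le : Nat.card {e : F // e ^ 2 = 1} ≤ 2 := by
  by_cases h2 : (2 : F) = 0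
  · rw [card_sq_one_even h2]; omega
  · rw [card_sq_one_odd h2]

/-- The generator of a torus of order `m` has centraliser of order `m`. -/
theorem exists_torus_centralizer (m : ℕ) (hm : m = q - 1 ∨ m = q + 1) (h3 : 3 ≤ m) :
    ∃ g : SL(2, F), Nonscalar (g : M2) ∧ orderOf g = m ∧
      Nat.card (Subgroup.centralizer ({g} : Set SL(2, F))) = m ∧
      (4 < m → (g : M2).trace ≠ 0) := by
  obtain ⟨g, -, hg, -, -⟩ := exists_torus m hm
  have hns : Nonscalar (g : M2) := by
    by_contra hn
    have := orderOf_dvd_of_pow_eq_one (sq_one_of_scalar hn)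
    rw [hg] at this
    have := Nat.le_of_dvd two_pos this
    omega
  refine ⟨g, hns, hg, ?_, fun h4 ht => ?_⟩
  · have hd := orderOf_dvd_card_centralizer g
    rw [hg] at hd
    have hq : 2 ≤ q := Fintype.one_lt_card
    have hcop : ∀ e, Nat.card {e : F // e ^ 2 = 1} = e → ¬ m ∣ e * q := by
      intro e he hdvd
      have hc : Nat.Coprime m q := by
        apply Nat.coprime_of_dvd
        intro k hk hkm hkq
        rcases hm with rfl | rfl
        · have := (Nat.dvd_sub hkq hkm)
          rw [show q - (q - 1) = 1 by omega] at this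
          exact hk.one_lt.ne' (Nat.dvd_one.1 this)
        · exact hk.one_lt.ne' (Nat.dvd_one.1 ((Nat.dvd_add_right hkq).1 hkm))
      have : Nonempty {e : F // e ^ 2 = 1} := ⟨⟨1, one_pow 2⟩⟩
      have := Nat.le_of_dvd (he ▸ Nat.card_pos) (hc.dvd_of_dvd_mul_right hdvd)
      have := card_sq_one_le (F := F)
      omega
    rcases centralizer_SL_cases hns with ⟨-, hc⟩ | ⟨-, hc⟩ | ⟨-, hc⟩
    · rw [hc] at hd ⊢
      rcases hm with h | h
      · exfalso
        have : m ∣ 2 := by
          have := Nat.dvd_sub hd (dvd_refl m)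
          rwa [show q + 1 - m = 2 by omega] at this
        have := Nat.le_of_dvd two_pos this
        omega
      · exact h.symm
    · rw [hc] at hd ⊢
      rcases hm with h | h
      · exact h.symm
      · exfalso
        have := Nat.le_of_dvd (by omega) hd
        omega
    · rw [hc] at hd
      exact absurd hd (hcop _ rfl)
  · have := orderOf_dvd_of_pow_eq_one (pow_four_of_trace_zero ht)
    rw [hg] at this
    have := Nat.le_of_dvd (by norm_num) this
    omega

theorem index_centralizer_torus {g : SL(2, F)} {m : ℕ}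
    (hc : Nat.card (Subgroup.centralizer ({g} : Set SL(2, F))) = m) {k : ℕ} (hk : k * m = (q - 1) * (q + 1))
    (hm : 0 < m) : (Subgroup.centralizer ({g} : Set SL(2, F))).index = q * k := by
  refine Nat.eq_of_mul_eq_mul_right hm ?_
  have := index_centralizer_SL g
  rw [hc] at this
  rw [this, mul_assoc, mul_assoc, hk]

/-- A non-scalar element is a product of elements of prescribed traces, given a point of a conic. -/
theorem exists_factor {z : SL(2, F)} (hz : Nonscalar (z : M2)) (s s' : F)
    (h : ∃ a b : F, a ^ 2 + b ^ 2 - (z : M2).trace * a * b - s * a + s' * b + 1 = 0) :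
    ∃ y w : SL(2, F), z = y * w ∧ (y : M2).trace = s ∧ (w : M2).trace = s' := by
  obtain ⟨a, b, hab⟩ := h
  obtain ⟨P, hP, hPe⟩ := exists_companion hz
  rw [z.det_coe] at hPe
  obtain ⟨h1, h2⟩ := inv_mul_self hP
  set t := (z : M2).trace
  let y0 : M2 := !![a, b; s' + b - a * t, s - a]
  let y1 : M2 := !![s - a, -b; -(s' + b - a * t), a]
  have hy0 : y0.det = 1 := by
    simp only [y0, Matrix.det_fin_two_of]; linear_combination -hab
  have hy1 : y1.det = 1 := by
    simp only [y1, Matrix.det_fin_two_of]; linear_combination -hab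
  have h01 : y0 * y1 = 1 := by
    ext i j
    fin_cases i <;> fin_cases j <;> simp [y0, y1, Matrix.mul_apply, Fin.sum_univ_two] <;>
      first | linear_combination -hab | ring
  have hPd : P.det * (P⁻¹).det = 1 := by rw [← Matrix.det_mul, h2, Matrix.det_one]
  let y : SL(2, F) := ⟨P * y0 * P⁻¹, by
    rw [Matrix.det_mul, Matrix.det_mul, hy0, mul_one, hPd]⟩
  let w : SL(2, F) := ⟨P * (y1 * companion t 1) * P⁻¹, by
    rw [Matrix.det_mul, Matrix.det_mul, Matrix.det_mul, hy1, det_companion, one_mul, mul_one, hPd]⟩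
  refine ⟨y, w, Subtype.ext ?_, ?_, ?_⟩
  · show (z : M2) = P * y0 * P⁻¹ * (P * (y1 * companion t 1) * P⁻¹)
    calc (z : M2) = P * companion t 1 * P⁻¹ := by
          rw [← hPe, Matrix.mul_assoc, h2, Matrix.mul_one]
      _ = P * (y0 * y1) * companion t 1 * P⁻¹ := by rw [h01, Matrix.mul_one]
      _ = P * y0 * (P⁻¹ * P) * (y1 * companion t 1) * P⁻¹ := by
          rw [h1]; simp only [Matrix.mul_assoc, Matrix.one_mul]
      _ = _ := by simp only [Matrix.mul_assoc]
  · show (P * y0 * P⁻¹).trace = s
    rw [Matrix.trace_mul_comm, ← Matrix.mul_assoc, h1, Matrix.one_mul, Matrix.trace_fin_two]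
    simp [y0]
  · show (P * (y1 * companion t 1) * P⁻¹).trace = s'
    rw [Matrix.trace_mul_comm, ← Matrix.mul_assoc, h1, Matrix.one_mul, Matrix.trace_fin_two]
    simp [y1, companion, Matrix.mul_apply, Fin.sum_univ_two]

theorem conic_point {t s : F} (ht : t + 2 ≠ 0) (hd : (2 : F) = 0 ∨ t ^ 2 ≠ 4 * 1) :
    ∃ a b : F, a ^ 2 + b ^ 2 - t * a * b - s * a + s * b + 1 = 0 := by
  obtain ⟨⟨X, Y⟩, hXY⟩ := exists_normForm_eq (t := -t) (d := 1)
    (by rwa [neg_sq]) (s ^ 2 / (2 + t) - 1)
  have ht' : 2 + t ≠ 0 := by rwa [add_comm]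
  set a0 := s / (2 + t) with ha0
  have h0 : a0 * (2 + t) = s := div_mul_cancel₀ _ ht'
  have h0' : s ^ 2 / (2 + t) = s * a0 := by rw [ha0]; ring
  rw [h0'] at hXY
  refine ⟨a0 + X, -a0 + Y, ?_⟩
  simp only [normForm] at hXY
  linear_combination hXY + (a0 + X - Y) * h0

theorem conj_lift_of_trace {x w : SL(2, F)} {s : F} (hx : (x : M2).trace = s)
    (hw : (w : M2).trace = s ∨ (w : M2).trace = -s) (hs : s ≠ 0)
    (hs' : (2 : F) = 0 ∨ s ^ 2 ≠ 4 * 1) :
    ∃ u : L2, proj w = u * proj x * u⁻¹ := by
  have nons : ∀ {v : SL(2, F)}, (v : M2).trace ^ 2 ≠ 4 * 1 ∨ ((2 : F) = 0 ∧ (v : M2).trace ≠ 0) →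
      Nonscalar (v : M2) := by
    intro v hv c hc
    have h := v.det_coe
    rw [hc, Matrix.det_smul, Matrix.det_one, Fintype.card_fin, mul_one] at h
    have htr : (v : M2).trace = 2 * c := by rw [hc]; simp [Matrix.trace_fin_two]; ring
    rcases hv with hv | ⟨h2, hv⟩
    · exact hv (by rw [htr]; linear_combination 4 * h)
    · exact hv (by rw [htr, h2, zero_mul])
  have nx : Nonscalar (x : M2) := nons (by
    rw [hx]; rcases hs' with h | h
    · exact Or.inr ⟨h, hs⟩
    · exact Or.inl h)
  have key : ∀ w' : SL(2, F), (w' : M2).trace = s → ∃ u : L2, proj w' = u * proj x * u⁻¹ := by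
    intro w' hw'
    have nw : Nonscalar (w' : M2) := nons (by
      rw [hw']; rcases hs' with h | h
      · exact Or.inr ⟨h, hs⟩
      · exact Or.inl h)
    obtain ⟨c, hc⟩ := isConj_iff.1 (isConj_SL_of_trace nx nw (hx.trans hw'.symm) (hx ▸ hs'))
    exact ⟨proj c, by rw [← hc, map_mul, map_mul, map_inv]⟩
  rcases hw with hw | hw
  · exact key w hw
  · let w' : SL(2, F) := ⟨-(w : M2), by rw [Matrix.det_neg, w.det_coe]; simp⟩
    have : proj w = proj w' := proj_eq_iff.2 (Or.inr rfl)
    rw [this]
    exact key w' (by show (-(w : M2)).trace = s; rw [Matrix.trace_neg, hw, neg_neg])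

theorem orderOf_proj_le_two {g : SL(2, F)} (ht : (g : M2).trace = 0) : orderOf (proj g) ≤ 2 := by
  refine Nat.le_of_dvd two_pos (orderOf_dvd_of_pow_eq_one ?_)
  rw [← map_pow, proj_eq_one_iff]
  intro hn
  refine hn (-1) ?_
  rw [Matrix.SpecialLinearGroup.coe_pow, pow_two, cayley_hamilton, ht, zero_smul, zero_sub, neg_one_smul]

end Cfsg.Agent.Linear.Classes
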