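import Cfsg.Agent.Linear.SmallIso

/-!
`PSL_2(7) ≅ PSL_3(2)`: `PSL_2(7)` permutes seven partitions of the projective line into two
halves, `SL_3(2)` the seven non-zero vectors.
-/

set_option autoImplicit false
set_option linter.unusedSectionVars false

namespace Cfsg.Agent.Linear

open Matrix
open scoped MatrixGroups

section Seven

/-- `7` is prime. -/
theorem factPrimeSeven : Fact (Nat.Prime 7) := ⟨by norm_num⟩

attribute [local instance] factPrimeSeven

private def p7 : Fin 8 → Fin 2 → ZMod 7 :=
  ![![0, 1], ![1, 1], ![2, 1], ![3, 1], ![4, 1], ![5, 1], ![6, 1], ![1, 0]]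

private def half : Fin 7 → Fin 8 → Bool :=
  ![![true, true, true, false, true, false, false, false],
    ![true, true, false, true, false, false, true, false],
    ![true, true, false, false, false, true, false, true],
    ![true, false, true, true, false, false, false, true],
    ![true, false, true, false, false, true, true, false],
    ![true, false, false, true, true, true, false, false],
    ![true, false, false, false, true, false, true, true]]

private def perm8a : Equiv.Perm (Fin 8) where
  toFun := ![1, 2, 3, 4, 5, 6, 0, 7]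
  invFun := ![6, 0, 1, 2, 3, 4, 5, 7]
  left_inv := by decide
  right_inv := by decide

private def perm8b : Equiv.Perm (Fin 8) where
  toFun := ![0, 4, 3, 6, 5, 2, 7, 1]
  invFun := ![0, 7, 5, 2, 1, 4, 3, 6]
  left_inv := by decide
  right_inv := by decide

private def perm7a : Equiv.Perm (Fin 7) where
  toFun := ![6, 0, 5, 4, 1, 3, 2]
  invFun := ![1, 4, 6, 5, 3, 2, 0]
  left_inv := by decide
  right_inv := by decide

private def perm7b : Equiv.Perm (Fin 7) where
  toFun := ![5, 6, 0, 1, 3, 4, 2]
  invFun := ![2, 3, 6, 4, 5, 0, 1]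
  left_inv := by decide
  right_inv := by decide

/-- Pairs of permutations compatible with the seven partitions. -/
private def compat : Subgroup (Equiv.Perm (Fin 8) × Equiv.Perm (Fin 7)) where
  carrier := {s | ∀ i x y, (half (s.2 i) (s.1 x) == half (s.2 i) (s.1 y)) =
    (half i x == half i y)}
  one_mem' := fun _ _ _ => rfl
  mul_mem' {s t} hs ht := fun i x y => by
    rw [Prod.fst_mul, Prod.snd_mul, Equiv.Perm.mul_apply, Equiv.Perm.mul_apply,
      Equiv.Perm.mul_apply, hs, ht]
  inv_mem' {s} hs := fun i x y => by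
    have := hs (s.2⁻¹ i) (s.1⁻¹ x) (s.1⁻¹ y)
    simpa using this.symm

private theorem compat_unique (τ : Equiv.Perm (Fin 7)) (h : ((1 : Equiv.Perm (Fin 8)), τ) ∈ compat) :
    τ = 1 := by
  have key : ∀ i j : Fin 7, (∀ x y, (half j x == half j y) = (half i x == half i y)) → j = i := by
    decide +kernel
  ext i
  simpa using congrArg Fin.val (key i (τ i) (fun x y => h i x y))

/-- Coordinates of the seven points. -/
private def vec7 : Fin 7 → Fin 3 → ZMod 2 :=
  ![![0, 0, 1], ![0, 1, 0], ![0, 1, 1], ![1, 0, 0], ![1, 0, 1], ![1, 1, 0], ![1, 1, 1]]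

theorem psl_two_seven_iso_zmod :
    Nonempty (ProjectiveSpecialLinearGroup (Fin 2) (ZMod 7) ≃*
      ProjectiveSpecialLinearGroup (Fin 3) (ZMod 2)) := by
  obtain ⟨ρ, hρ, hval⟩ := exists_perm_action p7 (by rw [ZMod.card]) (by decide +kernel)
    (by decide +kernel)
  let a : SL(2, ZMod 7) := Matrix.SpecialLinearGroup.transvection zero_ne_one 1
  let b : SL(2, ZMod 7) := Matrix.SpecialLinearGroup.transvection one_ne_zero 1
  have hgen : Subgroup.closure ({a, b} : Set SL(2, ZMod 7)) = ⊤ := by
    refine eq_top_of_transvection_mem _ fun i j hij c => ?_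
    rw [show c = c.val • (1 : ZMod 7) by rw [nsmul_eq_mul, mul_one, ZMod.natCast_zmod_val]]
    refine transvection_mem_of_nsmul hij _ ?_ _
    fin_cases i <;> fin_cases j <;> first
      | exact absurd rfl hij
      | exact Subgroup.subset_closure (Or.inl rfl)
      | exact Subgroup.subset_closure (Or.inr rfl)
  have ha : ρ (QuotientGroup.mk a) = perm8a := hval a _ (by decide +kernel)
  have hb : ρ (QuotientGroup.mk b) = perm8b := hval b _ (by decide +kernel)
  have hex : ∀ g, ∃ τ, (ρ g, τ) ∈ compat := by
    have hle : ρ.range ≤ compat.map (MonoidHom.fst _ _) := by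
      rw [MonoidHom.range_eq_map, ← psl_closure_eq_top hgen, Subgroup.map_le_iff_le_comap,
        Subgroup.closure_le]
      rintro _ ⟨s, (rfl | rfl), rfl⟩
      · exact ⟨(perm8a, perm7a), by
          change ∀ i x y, _
          decide +kernel, ha.symm⟩
      · exact ⟨(perm8b, perm7b), by
          change ∀ i x y, _
          decide +kernel, hb.symm⟩
    intro g
    obtain ⟨⟨σ, τ⟩, hs, he⟩ := hle ⟨g, rfl⟩
    exact ⟨τ, by rwa [← he]⟩
  choose f hf using hex
  have huniq : ∀ g τ, (ρ g, τ) ∈ compat → f g = τ := by
    intro g τ h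
    have := mul_mem (inv_mem h) (hf g)
    rw [Prod.inv_mk, Prod.mk_mul_mk, inv_mul_cancel] at this
    exact (inv_mul_eq_one.1 (compat_unique _ this)).symm
  let ψ : ProjectiveSpecialLinearGroup (Fin 2) (ZMod 7) →* Equiv.Perm (Fin 7) :=
    MonoidHom.mk' f fun g h => huniq _ _ (by
      have := mul_mem (hf g) (hf h)
      rw [Prod.mk_mul_mk, ← map_mul] at this
      exact this)
  have hψa : ψ (QuotientGroup.mk a) = perm7a := huniq _ _ (by
    rw [ha]
    change ∀ i x y, _
    decide +kernel)
  have hψb : ψ (QuotientGroup.mk b) = perm7b := huniq _ _ (by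
    rw [hb]
    change ∀ i x y, _
    decide +kernel)
  have hsimple : IsSimpleGroup (ProjectiveSpecialLinearGroup (Fin 2) (ZMod 7)) :=
    Matrix.ProjectiveSpecialLinearGroup.rank_two_simple (by simp)
  have hψ : Function.Injective ψ := by
    rw [← MonoidHom.ker_eq_bot_iff]
    refine (MonoidHom.normal_ker ψ).eq_bot_or_eq_top.resolve_right fun h => ?_
    have : QuotientGroup.mk a ∈ ψ.ker := by rw [h]; exact Subgroup.mem_top _
    rw [MonoidHom.mem_ker, hψa] at this
    revert this
    decide +kernel
  -- the action of `SL_3(2)` on the seven non-zero vectors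
  let φ : SL(3, ZMod 2) →* Equiv.Perm (Fin 3 → ZMod 2) :=
    { toFun := fun g => g.toLin'.toEquiv
      map_one' := by ext v; simp
      map_mul' := fun g h => by ext v; simp [Matrix.mulVec_mulVec] }
  have hφ : Function.Injective φ := fun g h e =>
    Matrix.SpecialLinearGroup.toLin'_injective (LinearEquiv.ext fun v => congrFun (congrArg DFunLike.coe e) v)
  have hv0 : ∀ i, vec7 i ≠ 0 := by decide +kernel
  have hv : Function.Injective vec7 := by decide +kernel
  have hcov : ∀ v : Fin 3 → ZMod 2, v = 0 ∨ ∃ i, vec7 i = v := by decide +kernel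
  let emb : Equiv.Perm (Fin 7) →* Equiv.Perm (Fin 3 → ZMod 2) :=
    Equiv.Perm.extendDomainHom (Equiv.ofInjective _ hv)
  have hword : ∀ (w : List Bool), (True) → ∀ (s : SL(3, ZMod 2)),
      (∀ i, (s : Matrix (Fin 3) (Fin 3) (ZMod 2)) *ᵥ vec7 i =
        vec7 ((w.map fun t => cond t perm7b perm7a).prod i)) →
      φ s ∈ (emb.comp ψ).range := by
    intro w _ s h
    refine ⟨(w.map fun t => cond t (QuotientGroup.mk b) (QuotientGroup.mk a)).prod, ?_⟩
    rw [MonoidHom.comp_apply, map_list_prod, List.map_map]
    rw [show φ s = emb ((w.map fun t => cond t perm7b perm7a).prod) from Equiv.ext fun v => by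
      rcases hcov v with rfl | ⟨i, rfl⟩
      · have h0 : (0 : Fin 3 → ZMod 2) ∉ Set.range vec7 := fun ⟨i, hi⟩ => hv0 i hi
        rw [Equiv.Perm.extendDomainHom_apply, Equiv.Perm.extendDomain_apply_not_subtype _ _ h0]
        exact map_zero (Matrix.SpecialLinearGroup.toLin' s)
      · rw [Equiv.Perm.extendDomainHom_apply]
        refine Eq.trans ?_ (Equiv.Perm.extendDomain_apply_image _ (Equiv.ofInjective _ hv) i).symm
        exact h i]
    congr 2
    refine List.map_congr_left fun t _ => ?_
    cases t
    · exact hψa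
    · exact hψb
  have hgen3 : Subgroup.closure (Set.range fun x : {x : Fin 3 × Fin 3 // x.1 ≠ x.2} =>
      (Matrix.SpecialLinearGroup.transvection x.2 1 : SL(3, ZMod 2))) = ⊤ := by
    refine eq_top_of_transvection_mem _ fun i j hij c => ?_
    rw [show c = c.val • (1 : ZMod 2) by rw [nsmul_eq_mul, mul_one, ZMod.natCast_zmod_val]]
    have h1 : Matrix.SpecialLinearGroup.transvection hij (1 : ZMod 2) ∈
        Set.range fun x : {x : Fin 3 × Fin 3 // x.1 ≠ x.2} =>
          (Matrix.SpecialLinearGroup.transvection x.2 1 : SL(3, ZMod 2)) := ⟨⟨(i, j), hij⟩, rfl⟩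
    exact transvection_mem_of_nsmul hij _ (Subgroup.subset_closure h1) _
  have hle : φ.range ≤ (emb.comp ψ).range := by
    rw [MonoidHom.range_eq_map, ← hgen3, Subgroup.map_le_iff_le_comap, Subgroup.closure_le]
    rintro _ ⟨⟨⟨i, j⟩, hij⟩, rfl⟩
    fin_cases i <;> fin_cases j <;> try exact absurd rfl hij
    · refine hword [false, true, true, true, true, true, true, false] trivial _ ?_
      decide +kernel +revert
    · refine hword [true, false, true, false] trivial _ ?_
      decide +kernel +revert
    · refine hword [false, true, false, false, false, false] trivial _ ?_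
      decide +kernel +revert
    · refine hword [false, true, true, true, true, true] trivial _ ?_
      decide +kernel +revert
    · refine hword [true, false, false, true, false, false] trivial _ ?_
      decide +kernel +revert
    · refine hword [false, true, true, false, false, false, false, false] trivial _ ?_
      decide +kernel +revert
  have hc2 : Nat.card (ProjectiveSpecialLinearGroup (Fin 2) (ZMod 7)) = 168 := by
    have := card_PSL_two_of_odd (F := ZMod 7) (by rw [ZMod.card]; decide)
    rw [ZMod.card] at this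
    omega
  have hc3 : Nat.card SL(3, ZMod 2) = 168 := by
    have := card_SL_mul (F := ZMod 2) 3
    rw [ZMod.card, show (2 : ℕ) - 1 = 1 from rfl, one_mul] at this
    rw [this]
    simp [Fin.prod_univ_three]
  have hi : Function.Injective (emb.comp ψ) :=
    (Equiv.Perm.extendDomainHom_injective _).comp hψ
  have heq : φ.range = (emb.comp ψ).range := Subgroup.eq_of_le_of_card_ge hle (by
    rw [← Nat.card_congr (MonoidHom.ofInjective hφ).toEquiv,
      ← Nat.card_congr (MonoidHom.ofInjective hi).toEquiv, hc2, hc3])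
  have hc : Subgroup.center SL(3, ZMod 2) = ⊥ := Subgroup.eq_bot_of_card_eq _ (by
    rw [card_center_SL, Fintype.card_fin, ZMod.card]; rfl)
  exact ⟨((MonoidHom.ofInjective hi).trans ((MulEquiv.subgroupCongr heq).symm.trans
    (MonoidHom.ofInjective hφ).symm)).trans
    ((QuotientGroup.quotientMulEquivOfEq hc).trans QuotientGroup.quotientBot).symm⟩

theorem psl_two_seven_iso {F K : Type*} [Field F] [Fintype F] [Field K] [Fintype K]
    (hF : Fintype.card F = 7) (hK : Fintype.card K = 2) :
    Nonempty (ProjectiveSpecialLinearGroup (Fin 2) F ≃* ProjectiveSpecialLinearGroup (Fin 3) K) := by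
  obtain ⟨e⟩ : Nonempty (ZMod 7 ≃+* F) := ⟨FiniteField.ringEquivOfCardEq (by rw [ZMod.card, hF])⟩
  obtain ⟨e'⟩ : Nonempty (ZMod 2 ≃+* K) := ⟨FiniteField.ringEquivOfCardEq (by rw [ZMod.card, hK])⟩
  obtain ⟨f⟩ := psl_congr e (Fin 2)
  obtain ⟨f'⟩ := psl_congr e' (Fin 3)
  obtain ⟨m⟩ := psl_two_seven_iso_zmod
  exact ⟨f.symm.trans (m.trans f')⟩

end Seven

end Cfsg.Agent.Linear
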