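import Cfsg.Agent.Linear.Symplectic
import Cfsg.Agent.Linear.PermIso
import Cfsg.Agent.SympSub.Count

/-!
`Sp_4(2) ≅ S_6`.
-/

set_option autoImplicit false
set_option linter.unusedSectionVars false

namespace Cfsg.Agent.Linear.Symp

open Cfsg.Agent.Forms

variable {F : Type*} [Field F]

theorem two_eq_zero_of_card (F : Type*) [Field F] [Fintype F] (hF : Fintype.card F = 2) :
    (2 : F) = 0 := by
  have h : ((2 : ℕ) : F) = 0 := by rw [← hF]; exact FiniteField.cast_card_eq_zero F
  simpa using h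

theorem tau_sq_one {m : ℕ} (h2 : (2 : F) = 0) (v : Fin m ⊕ Fin m → F) :
    tau v (1 : F) * tau v 1 = 1 := by
  rw [tau_mul, one_add_one_eq_two, h2, tau_zero]

theorem tau_commute {m : ℕ} {v w : Fin m ⊕ Fin m → F} (h : sympBil m F v w = 0) :
    Commute (tau v (1 : F)) (tau w 1) := by
  refine sp_ext fun x => ?_
  have h' : sympBil m F w v = 0 := by rw [bil_swap, h, neg_zero]
  simp only [app_mul, app_tau, map_add, map_smul, LinearMap.add_apply, LinearMap.smul_apply, h, h',
    smul_eq_mul, mul_zero, add_zero]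
  module

theorem tau_braid {m : ℕ} (h2 : (2 : F) = 0) {v w : Fin m ⊕ Fin m → F}
    (h : sympBil m F v w = 1) :
    tau v (1 : F) * tau w 1 * tau v 1 = tau w 1 * tau v 1 * tau w 1 := by
  have hn : (-1 : F) = 1 := by
    rw [neg_eq_iff_add_eq_zero, one_add_one_eq_two, h2]
  have h' : sympBil m F w v = 1 := by rw [bil_swap, h, hn]
  have hinv : ∀ u : Fin m ⊕ Fin m → F, (tau u (1 : F))⁻¹ = tau u 1 := fun u =>
    inv_eq_of_mul_eq_one_right (tau_sq_one h2 u)
  have e1 := tau_conj (tau v (1 : F)) w (1 : F)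
  have e2 := tau_conj (tau w (1 : F)) v (1 : F)
  rw [hinv] at e1 e2
  rw [e1, e2, app_tau, app_tau, h, h', one_mul, one_smul, one_smul, add_comm]

/-- The chain of five vectors in `F^4`. -/
noncomputable def chain (F : Type*) [Field F] : ℕ → (Fin 2 ⊕ Fin 2 → F)
  | 0 => eV 0
  | 1 => fV 0
  | 2 => eV 0 + eV 1
  | 3 => fV 1
  | _ => eV 1

theorem sp_four_two_iso [Fintype F] (hF : Fintype.card F = 2) :
    Nonempty (Matrix.symplecticGroup (Fin 2) F ≃* Equiv.Perm (Fin 6)) := by
  have h2 := two_eq_zero_of_card F hF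
  have hn : (-1 : F) = 1 := by rw [neg_eq_iff_add_eq_zero, one_add_one_eq_two, h2]
  have hff : ∀ i j : Fin 2, sympBil 2 F (fV i) (fV j) = 0 := fun i j => by
    simp [sympBil_apply, sympForm_apply]
  have hfe : ∀ i j : Fin 2, sympBil 2 F (fV i) (eV j) = if j = i then 1 else 0 := fun i j => by
    rw [bil_swap, bil_eV_fV]; split_ifs <;> simp
  let g : ℕ → Matrix.symplecticGroup (Fin 2) F := fun i => tau (chain F i) 1
  have hadj : ∀ i, i + 1 < 5 → sympBil 2 F (chain F i) (chain F (i + 1)) = 1 := by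
    intro i hi
    rcases i with _ | _ | _ | _ | i <;>
      simp [chain, bil_eV_eV, bil_eV_fV, hfe, hff, hn] at hi ⊢ <;> omega
  have hfar : ∀ i j, i + 2 ≤ j → j < 5 → sympBil 2 F (chain F i) (chain F j) = 0 := by
    intro i j h1 h2
    rcases j with _ | _ | _ | _ | _ | j <;> try omega
    all_goals rcases i with _ | _ | _ | i <;> (try omega) <;>
      simp [chain, bil_eV_eV, bil_eV_fV, hfe, hff] at h1 ⊢
  have hg : CoxeterSym.RelA g 5 := ⟨fun i _ => tau_sq_one h2 _,
    fun i hi => tau_braid h2 (hadj i hi), fun i j h1 h3 => tau_commute (hfar i j h1 h3)⟩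
  obtain ⟨φ, hφ, -⟩ := CoxeterSym.exists_hom g 5 hg
  have happ : app (g 0) (fV 0) = fV (0 : Fin 2) + eV 0 := by
    rw [app_tau]; simp [chain, hfe]
  have hinj : Function.Injective φ := by
    refine injective_of_perm_hom (by omega) φ ?_ ?_
    · rw [hφ 0 (by omega)]
      intro h
      rw [h, app_one] at happ
      exact eV_ne_zero _ (add_eq_left.1 happ.symm)
    · rw [map_mul, hφ 0 (by omega), hφ 1 (by omega)]
      intro h
      have h' : app (g 0 * g 1) (fV 0) = app (1 : Matrix.symplecticGroup (Fin 2) F) (fV 0) := by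
        rw [h]
      have h1 : app (g 1) (fV 0) = fV (0 : Fin 2) := by
        rw [app_tau]; simp [chain, hff]
      rw [app_mul, app_one, h1, happ] at h'
      exact eV_ne_zero _ (add_eq_left.1 h')
  have hbij : Function.Bijective φ := hinj.bijective_of_nat_card_le (by
    rw [SympSub.card_symplecticGroup, hF, Nat.card_perm, Nat.card_fin]
    simp [SympSub.spOrder, Finset.prod_range_succ, Nat.factorial])
  exact ⟨(MulEquiv.ofBijective φ hbij).symm⟩

end Cfsg.Agent.Linear.Symp
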